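import Cfsg.Agent.FGS.ClassCount
import Cfsg.Agent.FGS.ConjCover

/-! Strict form of Gallagher's inequality and a coprime class-fixing lemma. -/

set_option autoImplicit false

namespace CL.KgvP

theorem gal_lt {X : Type*} [Group X] [Finite X] (N : Subgroup X) [N.Normal] (x₀ y₀ : X)
    (hxy : (y₀ : X ⧸ N) * x₀ = x₀ * y₀) (hn : ∀ n ∈ N, y₀ * n * x₀ ≠ x₀ * (y₀ * n)) :
    Nat.card (ConjClasses X) < Nat.card (ConjClasses N) * Nat.card (ConjClasses (X ⧸ N)) := by
  classical
  have := Fintype.ofFinite X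
  have hX := CL.sum_card_centralizer_eq (G := X)
  have hN := CL.sum_card_centralizer_eq (G := N)
  have hQ := CL.sum_card_centralizer_eq (G := X ⧸ N)
  have h1 : ∀ x : X, Nat.card (Subgroup.centralizer ({x} : Set X)) ≤
      Nat.card (Subgroup.centralizer ({(x : X ⧸ N)} : Set (X ⧸ N))) *
        {n : N | (n : X) * x = x * n}.ncard ∧ (x = x₀ →
      Nat.card (Subgroup.centralizer ({x} : Set X)) <
      Nat.card (Subgroup.centralizer ({(x : X ⧸ N)} : Set (X ⧸ N))) *
        {n : N | (n : X) * x = x * n}.ncard) := by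
    intro x
    set C := Subgroup.centralizer ({x} : Set X)
    let f : C →* X ⧸ N := (QuotientGroup.mk' N).comp C.subtype
    have e := Subgroup.card_mul_index f.ker
    rw [Subgroup.index_ker] at e
    have e0 : f.range ≤ Subgroup.centralizer ({(x : X ⧸ N)} : Set (X ⧸ N)) := by
      rintro _ ⟨⟨c, hc⟩, rfl⟩
      rw [Subgroup.mem_centralizer_singleton_iff] at hc ⊢
      show ((c : X ⧸ N)) * x = x * c
      rw [← QuotientGroup.mk_mul, hc, QuotientGroup.mk_mul]
    have e1 := Subgroup.card_le_of_le e0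
    have e2 : Nat.card f.ker ≤ {n : N | (n : X) * x = x * n}.ncard := by
      rw [← Nat.card_coe_set_eq]
      let g : f.ker → {n : N | (n : X) * x = x * n} := fun c =>
        ⟨⟨c.1.1, (QuotientGroup.eq_one_iff _).mp c.2⟩,
          Subgroup.mem_centralizer_singleton_iff.mp c.1.2⟩
      apply Nat.card_le_card_of_injective g
      intro a b hab
      apply Subtype.ext; apply Subtype.ext
      exact congrArg (fun z => (z.1.1 : X)) hab
    rw [← e, mul_comm]
    refine ⟨Nat.mul_le_mul e1 e2, fun hx => ?_⟩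
    subst hx
    refine Nat.mul_lt_mul_of_lt_of_le (lt_of_le_of_ne e1 fun h => ?_) e2
      (lt_of_lt_of_le Nat.card_pos e2)
    have h2 := Subgroup.eq_of_le_of_card_ge e0 h.ge
    have h3 : (y₀ : X ⧸ N) ∈ f.range := by
      rw [h2]; exact Subgroup.mem_centralizer_singleton_iff.2 hxy
    obtain ⟨⟨c, hc⟩, h4⟩ := h3
    have h5 : y₀⁻¹ * c ∈ N := QuotientGroup.eq.mp h4.symm
    apply hn _ h5
    simpa using Subgroup.mem_centralizer_singleton_iff.1 hc
  have h2 : ∀ q : X ⧸ N, ∑ x : {x : X // (x : X ⧸ N) = q},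
      {n : N | (n : X) * x.1 = x.1 * n}.ncard ≤ Nat.card (ConjClasses N) * Nat.card N := by
    intro q
    rw [CL.sum_ncard_rel_comm
      (fun (x : {x : X // (x : X ⧸ N) = q}) (n : N) => (n : X) * x.1 = x.1 * n), ← hN]
    apply Finset.sum_le_sum
    intro n _
    set S := {a : {x : X // (x : X ⧸ N) = q} | (n : X) * a.1 = a.1 * n}
    rcases S.eq_empty_or_nonempty with h | ⟨a, ha⟩
    · rw [h]; simp
    · rw [← Nat.card_coe_set_eq]
      have hm : ∀ b : S, a.1⁻¹ * b.1.1 ∈ N := fun b => QuotientGroup.eq.mp (a.2.trans b.1.2.symm)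
      let g : S → Subgroup.centralizer ({n} : Set N) := fun b =>
        ⟨⟨a.1⁻¹ * b.1.1, hm b⟩, by
          rw [Subgroup.mem_centralizer_singleton_iff]
          apply Subtype.ext
          have hb : (n : X) * b.1.1 = b.1.1 * n := b.2
          have ha' : (n : X) * a.1 = a.1 * n := ha
          show a.1⁻¹ * b.1.1 * n = n * (a.1⁻¹ * b.1.1)
          calc a.1⁻¹ * b.1.1 * n = a.1⁻¹ * (n * b.1.1) := by rw [hb]; group
            _ = a.1⁻¹ * (n * a.1) * a.1⁻¹ * b.1.1 := by group
            _ = n * (a.1⁻¹ * b.1.1) := by rw [ha']; group⟩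
      apply Nat.card_le_card_of_injective g
      intro b c hbc
      apply Subtype.ext; apply Subtype.ext
      have := congrArg (fun z => (z.1.1 : X)) hbc
      exact mul_left_cancel this
  have h3 : Nat.card (ConjClasses X) * Nat.card X <
      (Nat.card (ConjClasses (X ⧸ N)) * Nat.card (X ⧸ N)) *
        (Nat.card (ConjClasses N) * Nat.card N) := by
    rw [← hX, ← hQ, Finset.sum_mul]
    refine (Finset.sum_lt_sum (fun x _ => (h1 x).1)
      ⟨x₀, Finset.mem_univ _, (h1 x₀).2 rfl⟩).trans_le ?_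
    rw [← Finset.sum_fiberwise Finset.univ (fun x : X => (x : X ⧸ N))]
    apply Finset.sum_le_sum
    intro q _
    refine le_trans ?_ (Nat.mul_le_mul_left _ (h2 q))
    rw [Finset.mul_sum]
    rw [Finset.sum_subtype (p := fun x : X => (x : X ⧸ N) = q) _ (by simp)]
    apply Finset.sum_le_sum
    rintro ⟨x, rfl⟩ _
    exact le_rfl
  have e3 : Nat.card X = Nat.card (X ⧸ N) * Nat.card N :=
    Subgroup.card_eq_card_quotient_mul_card_subgroup N
  apply Nat.lt_of_mul_lt_mul_right (a := Nat.card X)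
  calc _ < _ := h3
    _ = _ := by rw [e3]; ring

theorem comm_of_cls {G : Type*} [Group G] [Finite G] {p : ℕ} [Fact p.Prime] (K : Subgroup G)
    [hK : K.Normal] (hc : ¬ p ∣ Nat.card K) {u : G} (hu : u ^ p = 1)
    (h : ∀ x ∈ K, ∃ m ∈ K, u * m * x = x * (u * m)) : ∀ x ∈ K, x * u = u * x := by
  classical
  have key : (Subgroup.centralizer ({u} : Set G)).subgroupOf K = ⊤ := by
    refine CL.eq_top_of_forall_exists_conj_mem fun x => ?_
    obtain ⟨m, hm, hx⟩ := h x x.2
    let A : Subgroup (MulAut G) := K.map MulAut.conj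
    let S := MulAction.orbit A (x : G)
    have hS : ∀ y, y ∈ S ↔ ∃ k ∈ K, k * (x : G) * k⁻¹ = y := fun y =>
      ⟨fun ⟨⟨_, k, hk, rfl⟩, h⟩ => ⟨k, hk, h⟩, fun ⟨k, hk, h⟩ => ⟨⟨_, k, hk, rfl⟩, h⟩⟩
    have hx' : u * (x : G) * u⁻¹ = (u * m⁻¹ * u⁻¹) * x * (u * m⁻¹ * u⁻¹)⁻¹ := by
      have : (x : G) = u * m * x * (u * m)⁻¹ := by rw [hx]; group
      conv_rhs => rw [this]
      group
    have hx'' : u⁻¹ * (x : G) * u = m * x * m⁻¹ := by
      have : (x : G) = u * m * x * (u * m)⁻¹ := by rw [hx]; group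
      conv_lhs => rw [this]
      group
    have hinv : ∀ y, (MulAut.conj u).toEquiv y ∈ S ↔ y ∈ S := fun y => by
      rw [hS, hS]
      constructor
      · rintro ⟨k, hk, e⟩
        refine ⟨u⁻¹ * k * u⁻¹⁻¹ * m, mul_mem (hK.conj_mem _ hk _) hm, ?_⟩
        have e' : k * (x : G) * k⁻¹ = u * y * u⁻¹ := e
        calc _ = u⁻¹ * k * u * (m * x * m⁻¹) * (u⁻¹ * k⁻¹ * u) := by group
          _ = u⁻¹ * (k * x * k⁻¹) * u := by rw [← hx'']; group
          _ = y := by rw [e']; group
      · rintro ⟨k, hk, rfl⟩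
        refine ⟨u * k * u⁻¹ * (u * m⁻¹ * u⁻¹),
          mul_mem (hK.conj_mem _ hk _) (hK.conj_mem _ (inv_mem hm) _), ?_⟩
        show _ = u * (k * (x : G) * k⁻¹) * u⁻¹
        calc _ = u * k * u⁻¹ * ((u * m⁻¹ * u⁻¹) * x * (u * m⁻¹ * u⁻¹)⁻¹) * (u * k⁻¹ * u⁻¹) := by
              group
          _ = _ := by rw [← hx']; group
    have := Fintype.ofFinite S
    let σ : Equiv.Perm S := Equiv.Perm.subtypePerm (MulAut.conj u).toEquiv hinv
    have hσ : σ ^ p ^ 1 = 1 := by
      rw [pow_one, Equiv.Perm.subtypePerm_pow]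
      ext y
      have : (MulAut.conj u) ^ p = 1 := by rw [← map_pow, hu, map_one]
      have h2 : ((MulAut.conj u).toEquiv : Equiv.Perm G) ^ p = 1 := by
        have := congrArg (MulAut.toPerm G) this
        rw [map_pow, map_one] at this
        exact this
      show (((MulAut.conj u).toEquiv : Equiv.Perm G) ^ p) y.1 = y.1
      rw [h2]; rfl
    have hcard : ¬ p ∣ Fintype.card S := fun hd => hc (by
      rw [← Nat.card_eq_fintype_card] at hd
      refine hd.trans (Dvd.dvd.trans ?_ (Subgroup.card_map_dvd K MulAut.conj))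
      rw [Nat.card_congr (MulAction.orbitEquivQuotientStabilizer A (x : G))]
      exact Subgroup.card_quotient_dvd_card _)
    obtain ⟨⟨y, hy⟩, hf⟩ := Equiv.Perm.exists_fixed_point_of_prime hcard hσ
    obtain ⟨k, hk, rfl⟩ := (hS y).1 hy
    refine ⟨⟨k, hk⟩, ?_⟩
    rw [Subgroup.mem_subgroupOf, Subgroup.mem_centralizer_singleton_iff]
    have h3 : u * (k * (x : G) * k⁻¹) * u⁻¹ = k * x * k⁻¹ := congrArg Subtype.val hf
    show k * (x : G) * k⁻¹ * u = u * (k * x * k⁻¹)
    conv_lhs => rw [← h3]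
    group
  intro x hx
  have : (⟨x, hx⟩ : K) ∈ (Subgroup.centralizer ({u} : Set G)).subgroupOf K := by
    rw [key]; trivial
  exact Subgroup.mem_centralizer_singleton_iff.1 this

end CL.KgvP
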